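import Mathlib.Algebra.Homology.TotalComplex
import Mathlib.Algebra.Homology.ComplexShapeSigns
import Mathlib.Algebra.Homology.HomologicalComplexAbelian
import Mathlib.Algebra.Homology.HomologySequenceLemmas
import Mathlib.Algebra.Homology.HomotopyCategory.MappingCone
import Mathlib.Algebra.Homology.HomotopyCategory.Pretriangulated
import Mathlib.Algebra.Homology.Refinements
import Mathlib.CategoryTheory.Abelian.Refinements
import Mathlib.CategoryTheory.Limits.Shapes.BinaryBiproducts
import Mathlib.Algebra.Homology.HomologicalComplexBiprod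
import Mathlib.Tactic

/-!
# The total complex preserves quasi-isomorphisms of first quadrant double complexes
-/

set_option autoImplicit false
set_option linter.style.haveILetI false
set_option backward.isDefEq.respectTransparency false
set_option backward.isDefEq.respectTransparency.types false

universe v u

open CategoryTheory CategoryTheory.Limits

namespace Groth.Agent.TotQis

variable {A : Type u} [Category.{v} A] [Abelian A]

local notation "cZ" => ComplexShape.up ℤ

/-- Double complexes, as complexes of complexes. -/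
abbrev Bi (A : Type u) [Category.{v} A] [Abelian A] : Type _ := CochainComplex (CochainComplex A ℤ) ℤ

/-- Vanishing outside a quadrant. -/
def Bdd (C : Bi A) (a b : ℤ) : Prop := ∀ p q : ℤ, p < a ∨ q < b → IsZero ((C.X p).X q)

lemma hasTotal_of_bdd {C : Bi A} {a b : ℤ} (h : Bdd C a b) : HomologicalComplex₂.HasTotal C cZ := by
  intro n
  let F : ((ComplexShape.π cZ cZ cZ) ⁻¹' {n} : Set (ℤ × ℤ)) → A :=
    fun i => HomologicalComplex₂.toGradedObject C i.1
  let s : Finset ℤ := Finset.Icc b (n - a)
  let G : s → A := fun q => (C.X (n - q.1)).X q.1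
  have hF : ∀ i : ((ComplexShape.π cZ cZ cZ) ⁻¹' {n} : Set (ℤ × ℤ)), i.1.1 + i.1.2 = n := fun i => i.2
  have hz : ∀ i : ((ComplexShape.π cZ cZ cZ) ⁻¹' {n} : Set (ℤ × ℤ)), i.1.2 ∉ s → IsZero (F i) := fun i hi => by
    obtain ⟨⟨p, q⟩, hpq⟩ := i
    refine h p q ?_
    have h1 : p + q = n := hpq
    replace hi : q ∉ Finset.Icc b (n - a) := hi
    simp only [Finset.mem_Icc, not_and_or, not_le] at hi
    omega
  have heq : ∀ i : ((ComplexShape.π cZ cZ cZ) ⁻¹' {n} : Set (ℤ × ℤ)), n - i.1.2 = i.1.1 := fun i => by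
    have := hF i
    omega
  let inj : ∀ i, F i ⟶ ∐ G := fun i =>
    if hi : i.1.2 ∈ s then
      (HomologicalComplex₂.XXIsoOfEq _ _ _ C (heq i) rfl).inv ≫ Limits.Sigma.ι G ⟨i.1.2, hi⟩
    else 0
  let fib : s → ((ComplexShape.π cZ cZ cZ) ⁻¹' {n} : Set (ℤ × ℤ)) := fun q =>
    ⟨(n - q.1, q.1), sub_add_cancel n q.1⟩
  have hinj : ∀ q : s, inj (fib q) = Limits.Sigma.ι G q := fun q => by
    simp only [inj]
    rw [dif_pos (show (fib q).1.2 ∈ s from q.2)]
    simp [fib]
    exact Category.id_comp _
  change HasColimit (Discrete.functor F)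
  refine HasColimit.mk ⟨Cofan.mk (∐ G) inj, Cofan.IsColimit.mk _
    (fun t => Limits.Sigma.desc fun q => t.inj (fib q)) (fun t i => ?_) (fun t m hm => ?_)⟩
  · change inj i ≫ _ = _
    by_cases hi : i.1.2 ∈ s
    · have key : fib ⟨i.1.2, hi⟩ = i := Subtype.ext (Prod.ext (heq i) rfl)
      simp only [inj, dif_pos hi, Category.assoc, Limits.Sigma.ι_desc]
      obtain ⟨⟨p, q⟩, hpq⟩ := i
      have hp : n - q = p := heq ⟨(p, q), hpq⟩
      subst hp
      simp [fib]
      exact Category.id_comp _
    · exact (hz i hi).eq_of_src _ _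
  · show m = (Limits.Sigma.desc fun q => t.inj (fib q) : ∐ G ⟶ t.pt)
    refine Limits.Sigma.hom_ext (f := G) _ _ fun q => ?_
    rw [Limits.Sigma.ι_desc, ← hinj q]
    exact hm (fib q)

section Chase

variable (C : Bi A) [HomologicalComplex₂.HasTotal C cZ]

/-- The total complex. -/
noncomputable abbrev tot : CochainComplex A ℤ := HomologicalComplex₂.total C cZ

/-- The inclusion of the summand of second degree `q`. -/
noncomputable def inc (n q : ℤ) : (C.X (n - q)).X q ⟶ (tot C).X n :=
  HomologicalComplex₂.ιTotal C cZ (n - q) q n (sub_add_cancel n q)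

/-- The projection to the summand of second degree `q`. -/
noncomputable def prj (n q : ℤ) : (tot C).X n ⟶ (C.X (n - q)).X q :=
  HomologicalComplex₂.totalDesc C fun p' q' h =>
    if e : q' = q then
      (HomologicalComplex₂.XXIsoOfEq _ _ _ C (show p' = n - q by subst e; have : p' + q' = n := h; omega) e).hom
    else 0

lemma inc_prj_self (n q : ℤ) : inc C n q ≫ prj C n q = 𝟙 _ := by
  simp [inc, prj]

lemma inc_prj_ne {n q q' : ℤ} (h : q' ≠ q) : inc C n q' ≫ prj C n q = 0 := by
  simp [inc, prj, h]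

lemma inc_d_prj_self (n q : ℤ) :
    inc C n q ≫ (tot C).d n (n + 1) ≫ prj C (n + 1) q = (C.d (n - q) (n + 1 - q)).f q := by
  have h : (ComplexShape.up ℤ).Rel (n - q) (n + 1 - q) := show n - q + 1 = n + 1 - q by omega
  rw [inc, HomologicalComplex₂.total_d, Preadditive.add_comp, Preadditive.comp_add,
    HomologicalComplex₂.ι_D₁_assoc, HomologicalComplex₂.ι_D₂_assoc,
    HomologicalComplex₂.d₁_eq C cZ h q (n + 1) (show n + 1 - q + q = n + 1 by omega),
    HomologicalComplex₂.d₂_eq C cZ (n - q) (show (ComplexShape.up ℤ).Rel q (q + 1) from rfl) (n + 1)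
      (show n - q + (q + 1) = n + 1 by omega)]
  simp [prj]

lemma inc_d_prj_lt {n q q' : ℤ} (h : q < q') : inc C n q' ≫ (tot C).d n (n + 1) ≫ prj C (n + 1) q = 0 := by
  rw [inc, HomologicalComplex₂.total_d, Preadditive.add_comp, Preadditive.comp_add,
    HomologicalComplex₂.ι_D₁_assoc, HomologicalComplex₂.ι_D₂_assoc,
    HomologicalComplex₂.d₁_eq C cZ (show (ComplexShape.up ℤ).Rel (n - q') (n + 1 - q') from show n - q' + 1 = _ by omega)
      q' (n + 1) (show n + 1 - q' + q' = n + 1 by omega),
    HomologicalComplex₂.d₂_eq C cZ (n - q') (show (ComplexShape.up ℤ).Rel q' (q' + 1) from rfl) (n + 1)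
      (show n - q' + (q' + 1) = n + 1 by omega)]
  simp [prj, h.ne', show q' + 1 ≠ q by omega]

variable {a b : ℤ} (hC : Bdd C a b)

include hC in
lemma sum_prj_inc (n : ℤ) : ∑ q ∈ Finset.Icc b (n - a), prj C n q ≫ inc C n q = 𝟙 _ := by
  refine HomologicalComplex₂.total.hom_ext _ fun p q h => ?_
  have h' : p + q = n := h
  obtain rfl : p = n - q := by omega
  change inc C n q ≫ _ = inc C n q ≫ _
  rw [Category.comp_id, Preadditive.comp_sum]
  by_cases hq : q ∈ Finset.Icc b (n - a)
  · rw [Finset.sum_eq_single q]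
    · rw [← Category.assoc, inc_prj_self, Category.id_comp]
    · exact fun q' _ hne => by rw [← Category.assoc, inc_prj_ne C hne.symm, zero_comp]
    · exact fun h => absurd hq h
  · simp only [Finset.mem_Icc, not_and_or, not_le] at hq
    exact (hC _ _ (by omega)).eq_of_src _ _

include hC in
lemma eq_sum {Z : A} (n : ℤ) (z : Z ⟶ (tot C).X n) :
    z = ∑ q ∈ Finset.Icc b (n - a), (z ≫ prj C n q) ≫ inc C n q := by
  conv_lhs => rw [← Category.comp_id z, ← sum_prj_inc C hC n, Preadditive.comp_sum]
  simp only [Category.assoc]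

variable (hrows : C.Acyclic)

include hC hrows in
lemma exists_primitive (n : ℤ) : ∀ (k : ℕ) (Q : ℤ), n - a < Q + k → ∀ {Z : A} (z : Z ⟶ (tot C).X (n + 1)),
    z ≫ (tot C).d (n + 1) (n + 1 + 1) = 0 → (∀ q, q < Q → z ≫ prj C (n + 1) q = 0) →
      ∃ (Z' : A) (π : Z' ⟶ Z) (_ : Epi π) (w : Z' ⟶ (tot C).X n), π ≫ z = w ≫ (tot C).d n (n + 1) := by
  intro k
  induction k with
  | zero =>
    intro Q hQ Z z hz hsupp
    simp only [Nat.cast_zero, add_zero] at hQ
    by_cases hlast : n + 1 - a < Q
    · refine ⟨Z, 𝟙 _, inferInstance, 0, ?_⟩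
      rw [eq_sum C hC (n + 1) z, Finset.sum_eq_zero fun q hq => ?_]
      · simp
      · rw [hsupp q (by have := (Finset.mem_Icc.1 hq).2; omega), zero_comp]
    · -- only the summand of first degree `a` is left
      have hQe : Q = n + 1 - a := by omega
      let x := z ≫ prj C (n + 1) Q
      have hx : x ≫ (C.d (n + 1 - Q) (n + 1 + 1 - Q)).f Q = 0 := by
        refine Eq.trans ?_ (((congrArg (fun t => t ≫ prj C (n + 1 + 1) Q) hz)).trans zero_comp)
        conv_rhs => rw [eq_sum C hC (n + 1) z]
        rw [Preadditive.sum_comp, Preadditive.sum_comp]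
        rw [Finset.sum_eq_single Q]
        · simp only [Category.assoc]
          rw [inc_d_prj_self]
          simp [x]
        · intro q hq hne
          simp only [Category.assoc]
          rcases lt_or_gt_of_ne hne with h | h
          · rw [← Category.assoc z, hsupp q h, zero_comp]
          · rw [inc_d_prj_lt C h, comp_zero, comp_zero]
        · intro hni
          simp only [Finset.mem_Icc, not_and_or, not_le] at hni
          simp only [Category.assoc]
          rw [← Category.assoc z, (hC (n + 1 - Q) Q (by omega)).eq_of_tgt (z ≫ prj C (n + 1) Q) 0, zero_comp]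
      have hrow := (HomologicalComplex.exactAt_iff' C (n - Q) (n + 1 - Q) (n + 1 + 1 - Q)
        (by simp; omega) (by simp; omega)).1 (hrows (n + 1 - Q))
      obtain ⟨Z', π, hπ, w, hw⟩ := (ShortComplex.exact_iff_exact_up_to_refinements _).1
        (hrow.map (HomologicalComplex.eval A (ComplexShape.up ℤ) Q)) x hx
      have hw0 : (C.X (n - Q)).X Q = (C.X (n - Q)).X Q := rfl
      refine ⟨Z', π, hπ, 0, ?_⟩
      have hx0 : π ≫ x = 0 := by
        refine hw.trans ?_
        rw [(hC (n - Q) Q (by omega)).eq_of_tgt w 0]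
        exact zero_comp
      rw [eq_sum C hC (n + 1) z, Preadditive.comp_sum, Finset.sum_eq_zero fun q hq => ?_, zero_comp]
      rcases eq_or_ne q Q with rfl | hne
      · rw [← Category.assoc, hx0, zero_comp]
      · have := (Finset.mem_Icc.1 hq).2
        rw [hsupp q (by omega), zero_comp, comp_zero]
  | succ k ih =>
    intro Q hQ Z z hz hsupp
    let x := z ≫ prj C (n + 1) Q
    by_cases hmem : Q ∈ Finset.Icc b (n + 1 - a)
    · have hx : x ≫ (C.d (n + 1 - Q) (n + 1 + 1 - Q)).f Q = 0 := by
        refine Eq.trans ?_ (((congrArg (fun t => t ≫ prj C (n + 1 + 1) Q) hz)).trans zero_comp)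
        conv_rhs => rw [eq_sum C hC (n + 1) z]
        rw [Preadditive.sum_comp, Preadditive.sum_comp, Finset.sum_eq_single Q]
        · simp only [Category.assoc]
          rw [inc_d_prj_self]
          simp [x]
        · intro q hq hne
          simp only [Category.assoc]
          rcases lt_or_gt_of_ne hne with h | h
          · rw [← Category.assoc z, hsupp q h, zero_comp]
          · rw [inc_d_prj_lt C h, comp_zero, comp_zero]
        · exact fun hni => absurd hmem hni
      have hrow := (HomologicalComplex.exactAt_iff' C (n - Q) (n + 1 - Q) (n + 1 + 1 - Q)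
        (by simp; omega) (by simp; omega)).1 (hrows (n + 1 - Q))
      obtain ⟨Z', π, hπ, w, hw⟩ := (ShortComplex.exact_iff_exact_up_to_refinements _).1
        (hrow.map (HomologicalComplex.eval A (ComplexShape.up ℤ) Q)) x hx
      change π ≫ x = w ≫ (C.d (n - Q) (n + 1 - Q)).f Q at hw
      let z' := π ≫ z - (w ≫ inc C n Q) ≫ (tot C).d n (n + 1)
      obtain ⟨Z'', π', hπ', w', hw'⟩ := ih (Q + 1) (by push_cast at hQ; omega) z'
        (by simp [z', hz]) (fun q hq => by
          simp only [z', Preadditive.sub_comp, Category.assoc]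
          rcases eq_or_ne q Q with rfl | hne
          · rw [inc_d_prj_self, ← hw, sub_self]
          · rw [hsupp q (by omega), inc_d_prj_lt C (show q < Q by omega)]
            simp)
      haveI := hπ
      haveI := hπ'
      refine ⟨Z'', π' ≫ π, epi_comp _ _, w' + π' ≫ w ≫ inc C n Q, ?_⟩
      rw [Preadditive.add_comp, ← hw']
      simp [z']
    · refine ih (Q + 1) (by push_cast at hQ; omega) z hz fun q hq => ?_
      rcases eq_or_ne q Q with rfl | hne
      · simp only [Finset.mem_Icc, not_and_or, not_le] at hmem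
        exact (hC _ _ (by omega)).eq_of_tgt _ _
      · exact hsupp q (by omega)

include hC hrows in
/-- Acyclic rows give an acyclic total complex. -/
theorem acyclic_tot : (tot C).Acyclic := fun m => by
  obtain ⟨n, rfl⟩ : ∃ n, m = n + 1 := ⟨m - 1, by omega⟩
  rw [HomologicalComplex.exactAt_iff' _ n (n + 1) (n + 1 + 1) (by simp) (by simp),
    ShortComplex.exact_iff_exact_up_to_refinements]
  intro Z z hz
  exact exists_primitive C hC hrows n ((n - a - b).toNat + 1) b (by push_cast; omega) z hz fun q hq =>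
    (hC _ _ (Or.inr hq)).eq_of_tgt _ _

end Chase

lemma isZero_biprod {D : Type*} [Category D] [HasZeroMorphisms D] {X Y : D} [HasBinaryBiproduct X Y]
    (hX : IsZero X) (hY : IsZero Y) : IsZero (X ⊞ Y) :=
  (biprod_isZero_iff X Y).2 ⟨hX, hY⟩

/-- Totals of degreewise split sequences are short exact. -/
lemma shortExact_tot {S : ShortComplex (Bi A)} [HomologicalComplex₂.HasTotal S.X₁ cZ]
    [HomologicalComplex₂.HasTotal S.X₂ cZ] [HomologicalComplex₂.HasTotal S.X₃ cZ]
    (σ : ∀ p q : ℤ, (S.map (HomologicalComplex.eval _ cZ p ⋙ HomologicalComplex.eval A cZ q)).Splitting) :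
    (ShortComplex.mk (HomologicalComplex₂.total.map S.f cZ) (HomologicalComplex₂.total.map S.g cZ)
      (by
        rw [← HomologicalComplex₂.total.map_comp]
        ext n p q h
        simp)).ShortExact :=
  HomologicalComplex.shortExact_of_degreewise_shortExact _ fun n => by
    refine ShortComplex.Splitting.shortExact
      { r := HomologicalComplex₂.totalDesc S.X₂ fun p q h => (σ p q).r ≫ HomologicalComplex₂.ιTotal S.X₁ cZ p q n h
        s := HomologicalComplex₂.totalDesc S.X₃ fun p q h => (σ p q).s ≫ HomologicalComplex₂.ιTotal S.X₂ cZ p q n h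
        f_r := ?_, s_g := ?_, id := ?_ }
    · refine HomologicalComplex₂.total.hom_ext _ fun p q h => ?_
      change HomologicalComplex₂.ιTotal S.X₁ cZ p q n h ≫ (HomologicalComplex₂.total.map S.f cZ).f n ≫ _ =
        HomologicalComplex₂.ιTotal S.X₁ cZ p q n h ≫ 𝟙 _
      rw [HomologicalComplex₂.ιTotal_map_assoc, HomologicalComplex₂.ι_totalDesc, Category.comp_id, ← Category.assoc]
      exact (congrArg (fun t => t ≫ _) (σ p q).f_r).trans (Category.id_comp _)
    · refine HomologicalComplex₂.total.hom_ext _ fun p q h => ?_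
      change HomologicalComplex₂.ιTotal S.X₃ cZ p q n h ≫ _ ≫ (HomologicalComplex₂.total.map S.g cZ).f n =
        HomologicalComplex₂.ιTotal S.X₃ cZ p q n h ≫ 𝟙 _
      rw [HomologicalComplex₂.ι_totalDesc_assoc, Category.assoc, HomologicalComplex₂.ιTotal_map, Category.comp_id,
        ← Category.assoc]
      exact (congrArg (fun t => t ≫ _) (σ p q).s_g).trans (Category.id_comp _)
    · refine HomologicalComplex₂.total.hom_ext _ fun p q h => ?_
      change HomologicalComplex₂.ιTotal S.X₂ cZ p q n h ≫
          ((HomologicalComplex₂.totalDesc S.X₂ fun p q h => (σ p q).r ≫ HomologicalComplex₂.ιTotal S.X₁ cZ p q n h :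
              (HomologicalComplex₂.total S.X₂ cZ).X n ⟶ (HomologicalComplex₂.total S.X₁ cZ).X n) ≫
            (HomologicalComplex₂.total.map S.f cZ).f n +
          (HomologicalComplex₂.total.map S.g cZ).f n ≫
            (HomologicalComplex₂.totalDesc S.X₃ fun p q h => (σ p q).s ≫ HomologicalComplex₂.ιTotal S.X₂ cZ p q n h :
              (HomologicalComplex₂.total S.X₃ cZ).X n ⟶ (HomologicalComplex₂.total S.X₂ cZ).X n)) =
        HomologicalComplex₂.ιTotal S.X₂ cZ p q n h ≫ 𝟙 _
      rw [Preadditive.comp_add, HomologicalComplex₂.ι_totalDesc_assoc, HomologicalComplex₂.ιTotal_map_assoc,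
        HomologicalComplex₂.ι_totalDesc, Category.assoc, HomologicalComplex₂.ιTotal_map, Category.comp_id,
        ← Category.assoc, ← Category.assoc, ← Preadditive.add_comp]
      exact (congrArg (fun t => t ≫ _) (σ p q).id).trans (Category.id_comp _)

lemma quasiIso_f_of_acyclic {S : ShortComplex (CochainComplex A ℤ)} (hS : S.ShortExact) (h : S.X₃.Acyclic) :
    QuasiIso S.f := by
  refine ⟨fun i => ?_⟩
  rw [quasiIsoAt_iff_isIso_homologyMap]
  haveI := (hS.homology_exact₂ i).epi_f ((h i).isZero_homology.eq_of_tgt _ _)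
  haveI := (hS.homology_exact₁ (i - 1) i (show i - 1 + 1 = i by omega)).mono_g
    ((h (i - 1)).isZero_homology.eq_of_src _ _)
  exact isIso_of_mono_of_epi _

lemma quasiIso_g_of_acyclic {D : Type*} [Category D] [Abelian D] {S : ShortComplex (CochainComplex D ℤ)}
    (hS : S.ShortExact) (h : S.X₁.Acyclic) : QuasiIso S.g := by
  refine ⟨fun i => ?_⟩
  rw [quasiIsoAt_iff_isIso_homologyMap]
  haveI := (hS.homology_exact₂ i).mono_g ((h i).isZero_homology.eq_of_src _ _)
  haveI := (hS.homology_exact₃ i (i + 1) rfl).epi_f ((h (i + 1)).isZero_homology.eq_of_tgt _ _)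
  exact isIso_of_mono_of_epi _

/-- The total complex preserves quasi-isomorphisms between bounded double complexes. -/
theorem quasiIso_total_map {K L : Bi A} (φ : K ⟶ L) {a b : ℤ} (hK : Bdd K a b) (hL : Bdd L a b)
    [HomologicalComplex₂.HasTotal K cZ] [HomologicalComplex₂.HasTotal L cZ] [QuasiIso φ] :
    QuasiIso (HomologicalComplex₂.total.map φ cZ) := by
  let M : Bi A := CochainComplex.mappingCone (𝟙 K)
  have hM : Bdd M (a - 1) b := fun p q h => by
    refine ((isZero_biprod (hK (p + 1) q (by omega)) (hK p q (by omega))).of_iso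
      ((HomologicalComplex.eval A cZ q).mapIso (HomologicalComplex.homotopyCofiber.XIsoBiprod (𝟙 K) p (p + 1) rfl) ≪≫
        (HomologicalComplex.eval A cZ q).mapBiprod _ _))
  have hMac : M.Acyclic := fun i => by
    rw [HomologicalComplex.exactAt_iff_isZero_homology, IsZero.iff_id_eq_zero, ← HomologicalComplex.homologyMap_id]
    exact ((CochainComplex.mappingCone.homotopyToZeroOfId K).homologyMap_eq i).trans (HomologicalComplex.homologyMap_zero _ _ _)
  let P : Bi A := M ⊞ L
  have hP : Bdd P (a - 1) b := fun p q h => by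
    refine ((isZero_biprod (hM p q h) (hL p q (by omega))).of_iso
      ((HomologicalComplex.eval A cZ q).mapIso ((HomologicalComplex.eval _ cZ p).mapBiprod M L) ≪≫
        (HomologicalComplex.eval A cZ q).mapBiprod _ _))
  let φ' : K ⟶ P := biprod.lift (CochainComplex.mappingCone.inr (𝟙 K)) φ
  let r : ∀ p q : ℤ, (P.X p).X q ⟶ (K.X p).X q := fun p q =>
    (((biprod.fst : P ⟶ M).f p) ≫ HomologicalComplex.homotopyCofiber.sndX (𝟙 K) p).f q
  have hr : ∀ p q, (φ'.f p).f q ≫ r p q = 𝟙 _ := fun p q => by
    show (φ'.f p).f q ≫ (((biprod.fst : P ⟶ M).f p) ≫ HomologicalComplex.homotopyCofiber.sndX (𝟙 K) p).f q = 𝟙 _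
    rw [← HomologicalComplex.comp_f, ← Category.assoc, ← HomologicalComplex.comp_f φ', biprod.lift_fst]
    refine (congrArg (fun t : K.X p ⟶ K.X p => t.f q) ?_).trans (HomologicalComplex.id_f (K.X p) q)
    exact HomologicalComplex.homotopyCofiber.inrX_sndX (𝟙 K) p
  haveI : ∀ p, Mono (φ'.f p) := fun p =>
    haveI : ∀ q, Mono ((φ'.f p).f q) := fun q => (SplitMono.mk (r p q) (hr p q)).mono
    HomologicalComplex.mono_of_mono_f _ inferInstance
  haveI : Mono φ' := HomologicalComplex.mono_of_mono_f _ inferInstance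
  let S₁ : ShortComplex (Bi A) := ShortComplex.mk φ' (cokernel.π φ') (cokernel.condition φ')
  have hS₁ : S₁.ShortExact :=
    { exact := ShortComplex.exact_of_g_is_cokernel _ (cokernelIsCokernel φ')
      mono_f := inferInstanceAs (Mono φ')
      epi_g := inferInstanceAs (Epi (cokernel.π φ')) }
  let S₂ : ShortComplex (Bi A) := ShortComplex.mk (biprod.inl : M ⟶ P) biprod.snd (by simp)
  let s₂ : S₂.Splitting := ShortComplex.Splitting.ofHasBinaryBiproduct M L
  have hg : QuasiIso S₂.g := quasiIso_g_of_acyclic s₂.shortExact hMac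
  haveI : QuasiIso φ' := by
    haveI : QuasiIso (biprod.snd : P ⟶ L) := hg
    haveI : QuasiIso (φ' ≫ (biprod.snd : P ⟶ L)) := by rw [biprod.lift_snd]; infer_instance
    exact quasiIso_of_comp_right φ' (biprod.snd : P ⟶ L)
  have hQac : S₁.X₃.Acyclic := hS₁.acyclic_X₃ ‹QuasiIso φ'›
  have hse : ∀ p q : ℤ, (S₁.map (HomologicalComplex.eval _ cZ p ⋙ HomologicalComplex.eval A cZ q)).ShortExact :=
    fun p q => (hS₁.map_of_exact (HomologicalComplex.eval _ cZ p)).map_of_exact (HomologicalComplex.eval A cZ q)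
  have hQ : Bdd S₁.X₃ (a - 1) b := fun p q h => by
    haveI : Epi ((cokernel.π φ').f p |>.f q) := (hse p q).epi_g
    exact IsZero.of_epi ((cokernel.π φ').f p |>.f q) (hP p q h)
  haveI : HomologicalComplex₂.HasTotal M cZ := hasTotal_of_bdd hM
  haveI : HomologicalComplex₂.HasTotal P cZ := hasTotal_of_bdd hP
  haveI : HomologicalComplex₂.HasTotal S₁.X₁ cZ := ‹HomologicalComplex₂.HasTotal K cZ›
  haveI : HomologicalComplex₂.HasTotal S₁.X₂ cZ := hasTotal_of_bdd hP
  haveI : HomologicalComplex₂.HasTotal S₁.X₃ cZ := hasTotal_of_bdd hQ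
  haveI : HomologicalComplex₂.HasTotal S₂.X₁ cZ := hasTotal_of_bdd hM
  haveI : HomologicalComplex₂.HasTotal S₂.X₂ cZ := hasTotal_of_bdd hP
  haveI : HomologicalComplex₂.HasTotal S₂.X₃ cZ := ‹HomologicalComplex₂.HasTotal L cZ›
  have h1 := quasiIso_f_of_acyclic (shortExact_tot (S := S₁)
    (fun p q => ShortComplex.Splitting.ofExactOfRetraction _ (hse p q).exact (r p q) (hr p q) (hse p q).epi_g))
    (acyclic_tot S₁.X₃ hQ hQac)
  have h2 := quasiIso_g_of_acyclic (shortExact_tot (S := S₂) (fun p q => s₂.map _)) (acyclic_tot M hM hMac)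
  haveI : QuasiIso (HomologicalComplex₂.total.map φ' cZ) := h1
  haveI : QuasiIso (HomologicalComplex₂.total.map (biprod.snd : P ⟶ L) cZ) := h2
  have e : HomologicalComplex₂.total.map φ cZ =
      HomologicalComplex₂.total.map φ' cZ ≫ HomologicalComplex₂.total.map (biprod.snd : P ⟶ L) cZ := by
    rw [← HomologicalComplex₂.total.map_comp, biprod.lift_snd]
  rw [e]
  infer_instance

end Groth.Agent.TotQis
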